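import Mathlib
import Cfsg.Agent.H684.CoverCount_m3
import Cfsg.Agent.H656.OverPrincipal
import Cfsg.Agent.H611.CoverPrincipal
import Cfsg.Agent.Characters.Clifford
import Cfsg.Agent.Characters.Linear
import Cfsg.Agent.H703.Lat.Basic
import Cfsg.Agent.Prune
set_option linter.all false
prune_inst 0x7f00000000000000000000000000000000000000000000000000000000000000000000000000000000000000000000000000000000000000000000000000000000000000000000000000000000000000003fffffffffffffffffffffffffffbeffbdfbfeffff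
open scoped Cfsg.Agent.FastGrp

/-!
# Characters of the principal block over a normal subgroup (S4876)

* `sum_over`: `∑_{χ ∈ B₀(G)} [χ_N, θ] χ(u) = 0` for a `p`-element `u` outside the normal subgroup `N`;
* `two_over`: if `p` divides `|G : N|` and all degrees in `B₀(G)` are prime to `p`, then at least two members of
  `B₀(G)` lie over every `θ ∈ B₀(N)`;
* `two_degrees`: a perfect group of order divisible by `p` has two nontrivial characters of different degrees in its
  principal block.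
-/

set_option autoImplicit false
set_option linter.unusedSectionVars false

open Cfsg
open scoped ComplexConjugate

namespace Cfsg.Agent.H703.K6

open Cfsg.Agent.Characters.Core Cfsg.Agent.Blocks Cfsg.Agent.Blocks.Basic Cfsg.Agent.H703.Lat

universe u

variable {G : Type u} [Group G] [Finite G] {p : ℕ} [Fact p.Prime] {M : Ideal AlgInt}

theorem finsum_B0 {A : Type*} [AddCommMonoid A] (f : IrrCharacter G → A) :
    ∑ᶠ χ ∈ principalBlock M G, f χ = ∑ χ ∈ B0 M G, f χ := by
  have := finite_irr (G := G)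
  rw [finsum_mem_eq_finite_toFinset_sum _ (Set.toFinite _), B0]

/-- Block orthogonality. -/
theorem orth (hM : IsPModular p M) {x y a b : G} (hx : IsPPart p x a) (hy : IsPPart p y b)
    (hab : ¬ IsConj a b) : ∑ χ ∈ B0 M G, (χ : G → ℂ) x * (χ : G → ℂ) y⁻¹ = 0 := by
  rw [← finsum_B0]
  exact (S0925.result p M hM).2 x y a b hx hy hab _ H684.BlockTools.isPBlock_principal

theorem sum_over (hM : IsPModular p M) (N : Subgroup G) [N.Normal] [Fintype N] (θ : N → ℂ) {u : G}
    (hu : ∃ k : ℕ, orderOf u = p ^ k) (huN : u ∉ N) :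
    ∑ χ ∈ B0 M G, classInner (fun n : N => (χ : G → ℂ) n) θ * (χ : G → ℂ) u = 0 := by
  have h1 : ∀ χ ∈ B0 M G, classInner (fun n : N => (χ : G → ℂ) n) θ * (χ : G → ℂ) u =
      ∑ n : N, (Nat.card N : ℂ)⁻¹ * conj (θ n) * ((χ : G → ℂ) n * (χ : G → ℂ) u) := by
    intro χ _
    rw [Cfsg.Agent.Characters.Core.classInner_def, Finset.mul_sum, Finset.sum_mul]
    exact Finset.sum_congr rfl fun n _ => by ring
  rw [Finset.sum_congr rfl h1, Finset.sum_comm]
  refine Finset.sum_eq_zero fun n _ => ?_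
  rw [← Finset.mul_sum]
  obtain ⟨a, ha⟩ := PPart.exists_isPPart p (n : N)
  have h2 : IsPPart p (n : G) (a : G) := PPart.isPPart_map N.subtype N.subtype_injective ha
  have h3 : IsPPart p u⁻¹ u⁻¹ := by
    refine PPart.isPPart_of_isPGroup ?_
    rw [orderOf_inv]
    exact hu
  have h4 := orth hM (M := M) h2 h3 (by
    intro hc
    obtain ⟨c, hc⟩ := isConj_iff.1 hc
    have h5 : u⁻¹ ∈ N := by
      rw [← hc]
      exact ‹N.Normal›.conj_mem _ a.2 c
    exact huN (N.inv_mem_iff.1 h5))
  rw [inv_inv] at h4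
  rw [h4, mul_zero]

/-- A `p`-element outside a subgroup of index divisible by `p`. -/
theorem exists_notMem (N : Subgroup G) (h : p ∣ N.index) : ∃ u : G, (∃ k : ℕ, orderOf u = p ^ k) ∧ u ∉ N := by
  by_contra hcon
  push Not at hcon
  obtain ⟨P⟩ : Nonempty (Sylow p G) := inferInstance
  have h1 : (P : Subgroup G) ≤ N := by
    intro x hx
    refine hcon x ?_
    obtain ⟨k, hk⟩ := IsPGroup.iff_orderOf.1 P.isPGroup' ⟨x, hx⟩
    exact ⟨k, by rw [← hk, Subgroup.orderOf_mk]⟩
  exact P.not_dvd_index (h.trans (Subgroup.index_dvd_of_le h1))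

/-- A character of degree prime to `p` does not vanish on `p`-elements. -/
theorem apply_ne_zero (hM : IsPModular p M) (χ : IrrCharacter G) (hχ : ¬ p ∣ charDegree (χ : G → ℂ)) {u : G}
    (hu : ∃ k : ℕ, orderOf u = p ^ k) : (χ : G → ℂ) u ≠ 0 := by
  intro h0
  have hMp : M.IsPrime := LocalRing.isPrime hM
  have h1 := CharactersDeep.ModCongr.memLocalIdeal_character_sub hM χ.2 u u
    (PPart.isPPart_of_isPGroup (p := p) hu)
  rw [h0, inv_mul_cancel, zero_sub, irr_one_eq_charDegree χ.2] at h1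
  have h2 : MemLocalIdeal M (((-(charDegree (χ : G → ℂ) : ℤ) : ℤ)) : ℂ) := by
    push_cast
    exact h1
  have h3 := (LocalRing.memLocalIdeal_intCast_iff hM _).1 h2
  rw [Int.dvd_neg, Int.natCast_dvd_natCast] at h3
  exact hχ h3

/-- **At least two members of `B₀(G)` lie over each member of `B₀(N)`.** -/
theorem two_over (hM : IsPModular p M) (N : Subgroup G) [N.Normal] [Fintype N] (hN : p ∣ N.index)
    (hdeg : ∀ χ ∈ principalBlock M G, ¬ p ∣ charDegree (χ : G → ℂ)) {θ : IrrCharacter N}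
    (hθ : θ ∈ principalBlock M N) :
    ∃ χ ∈ principalBlock M G, ∃ ψ ∈ principalBlock M G, χ ≠ ψ ∧
      classInner (fun n : N => (χ : G → ℂ) n) (θ : N → ℂ) ≠ 0 ∧
      classInner (fun n : N => (ψ : G → ℂ) n) (θ : N → ℂ) ≠ 0 := by
  classical
  obtain ⟨P⟩ : Nonempty (Sylow p G) := inferInstance
  obtain ⟨χ, hχ, hχθ⟩ := H656.OverPrincipal.exists_over hM N P
    (by rw [Subgroup.normalizer_eq_top]; exact le_top) θ hθ
  by_contra hcon
  push Not at hcon
  obtain ⟨u, hu, huN⟩ := exists_notMem N hN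
  have h1 := sum_over hM N (θ : N → ℂ) hu huN (M := M)
  rw [Finset.sum_eq_single_of_mem χ (mem_B0.2 hχ) (fun ψ hψ hne => by
    rw [hcon χ hχ ψ (mem_B0.1 hψ) (Ne.symm hne) hχθ, zero_mul])] at h1
  rcases mul_eq_zero.1 h1 with h | h
  · exact hχθ h
  · exact apply_ne_zero hM χ (hdeg χ hχ) hu h

/-- A perfect group has only one linear character. -/
theorem eq_one_of_degree (hperf : commutator G = ⊤) (χ : IrrCharacter G) (h : charDegree (χ : G → ℂ) = 1) :
    (χ : G → ℂ) = fun _ => 1 := by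
  obtain ⟨f, hf⟩ := Cfsg.Agent.Characters.Linear.exists_hom_of_isIrrCharacter χ.2
    (by rw [irr_one_eq_charDegree χ.2, h, Nat.cast_one])
  have h1 : f.ker = ⊤ := by
    rw [eq_top_iff, ← hperf]
    exact Abelianization.commutator_subset_ker f
  rw [hf]
  funext g
  have h2 : f g = 1 := by
    have : g ∈ f.ker := by rw [h1]; trivial
    exact this
  rw [h2, Units.val_one]

/-- **Two different degrees.** -/
theorem two_degrees (hM : IsPModular p M) (hperf : commutator G = ⊤) (hp : p ∣ Nat.card G) :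
    ∃ χ ∈ principalBlock M G, ∃ ψ ∈ principalBlock M G, (χ : G → ℂ) ≠ (fun _ => 1) ∧ (ψ : G → ℂ) ≠ (fun _ => 1) ∧
      charDegree (χ : G → ℂ) ≠ charDegree (ψ : G → ℂ) := by
  classical
  set one : IrrCharacter G := ⟨fun _ => 1, isIrrCharacter_one⟩ with hone
  obtain ⟨x, hx⟩ := exists_prime_orderOf_dvd_card' p hp
  have hx1 : ¬ IsConj x (1 : G) := by
    intro h
    have := isConj_one_left.1 h
    rw [this, orderOf_one] at hx
    exact (Fact.out : p.Prime).one_lt.ne hx
  have h1 := orth hM (M := M) (PPart.isPPart_of_isPGroup (p := p) (x := x) ⟨1, by rw [hx, pow_one]⟩)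
    (PPart.isPPart_of_isPGroup (p := p) (x := (1 : G)) ⟨0, by simp⟩) hx1
  rw [← Finset.add_sum_erase _ _ (one_mem_B0 hM)] at h1
  simp only [inv_one, mul_one] at h1
  have hmem : ∀ {χ : IrrCharacter G}, χ ∈ (B0 M G).erase one ↔ χ ∈ principalBlock M G ∧ (χ : G → ℂ) ≠ fun _ => 1 := by
    intro χ
    rw [Finset.mem_erase, mem_B0, and_comm]
    refine and_congr_right fun _ => ?_
    rw [Ne, Subtype.ext_iff]
  by_contra hcon
  push Not at hcon
  -- a nontrivial member
  obtain ⟨χ, hχ⟩ : ((B0 M G).erase one).Nonempty := by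
    by_contra hne
    rw [Finset.not_nonempty_iff_eq_empty] at hne
    rw [← hone, hne, Finset.sum_empty, add_zero] at h1
    exact one_ne_zero h1
  obtain ⟨hχB, hχ1⟩ := hmem.1 hχ
  set f := charDegree (χ : G → ℂ) with hf
  have h2 : ∑ ψ ∈ (B0 M G).erase one, (ψ : G → ℂ) x * (ψ : G → ℂ) 1 =
      (∑ ψ ∈ (B0 M G).erase one, (ψ : G → ℂ) x) * f := by
    rw [Finset.sum_mul]
    refine Finset.sum_congr rfl fun ψ hψ => ?_
    obtain ⟨hψB, hψ1⟩ := hmem.1 hψ
    rw [irr_one_eq_charDegree ψ.2, hf, hcon χ hχB ψ hψB hχ1 hψ1]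
  rw [← hone, h2] at h1
  set s := ∑ ψ ∈ (B0 M G).erase one, (ψ : G → ℂ) x with hs
  have hint : IsIntegral ℤ s := IsIntegral.sum _ fun ψ _ =>
    Characters.GaloisBasic.isIntegral_apply (isIrr_isCharacter ψ.2) x
  have hf0 : (f : ℂ) ≠ 0 := by
    intro h
    rw [h, mul_zero, add_zero] at h1
    exact one_ne_zero h1
  obtain ⟨z, hz⟩ := Characters.GaloisBasic.exists_int_of_isIntegral hint ⟨-(1 / (f : ℚ)), by
    push_cast
    field_simp
    linear_combination h1⟩
  rw [hz] at h1
  have h3 : (1 : ℤ) + z * f = 0 := by exact_mod_cast h1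
  have h4 : (f : ℤ) ∣ 1 := ⟨-z, by linear_combination h3⟩
  have h5 : f = 1 := by
    have := Int.natCast_dvd_natCast.1 (by exact_mod_cast h4 : ((f : ℕ) : ℤ) ∣ ((1 : ℕ) : ℤ))
    exact Nat.dvd_one.1 this
  exact hχ1 (eq_one_of_degree hperf χ h5)

end Cfsg.Agent.H703.K6

private theorem dce_c03a92fb1ea6 : _root_.True := by
  try have : _root_.True := by simp only [_root_.Cfsg.Agent.H703.Lat.B0.congr_simp]
  exact _root_.True.intro
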